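import Groth.Agent.FModLib.Present
import Groth.Agent.SiteBase.ModGroth
import Groth.Prelude.Def_ModSite2
import Mathlib.Algebra.Category.ModuleCat.ChangeOfRings
import Mathlib.Algebra.Category.ModuleCat.Descent
import Mathlib.Algebra.Category.ModuleCat.Sheaf.Quasicoherent
import Mathlib.Algebra.Homology.ShortComplex.ModuleCat

/-!
# Quasi-coherent modules for the chaotic topology
-/

set_option backward.isDefEq.respectTransparency false
set_option backward.isDefEq.respectTransparency.types false
set_option linter.style.haveILetI false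

universe u

open CategoryTheory CategoryTheory.Limits Opposite

noncomputable section

namespace Groth.Agent.ChaoticQC

/-- A natural map between two functors preserving a colimit is invertible at the colimit if it is on the diagram. -/
theorem isIso_app_of_isColimit {A B : Type*} [Category A] [Category B] {I : Type*} [Category I] {K : I ⥤ A}
    {c : Cocone K} (hc : IsColimit c) {L R : A ⥤ B} (τ : L ⟶ R) [PreservesColimit K L] [PreservesColimit K R]
    (h : ∀ i, IsIso (τ.app (K.obj i))) : IsIso (τ.app c.pt) := by
  let e := (isColimitOfPreserves L hc).coconePointsIsoOfNatIso (isColimitOfPreserves R hc)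
    (NatIso.ofComponents (fun i => asIso (τ.app (K.obj i))) fun f => τ.naturality (K.map f))
  have he : e.hom = τ.app c.pt := (isColimitOfPreserves L hc).hom_ext fun i => by
    rw [IsColimit.comp_coconePointsIsoOfNatIso_hom]
    exact (τ.naturality (c.ι.app i)).symm
  rw [← he]
  infer_instance

theorem over_bot {C : Type u} [Category.{u} C] (X : C) :
    (⊥ : GrothendieckTopology C).over X = ⊥ := by
  ext W S
  rw [GrothendieckTopology.mem_over_iff, GrothendieckTopology.bot_covering, GrothendieckTopology.bot_covering]
  constructor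
  · intro h
    refine (Sieve.overEquiv W).injective (h.trans ?_)
    ext; simp [Sieve.overEquiv_iff]
  · rintro rfl
    ext; simp [Sieve.overEquiv_iff]

variable {C : Type u} [SmallCategory C] {J : GrothendieckTopology C} {O : Sheaf J CommRingCat.{u}}

/-- Sections over an object, as a functor to modules over the ring of sections. -/
abbrev E (O : Sheaf J CommRingCat.{u}) (W : C) : ModSite.Mod O ⥤ ModuleCat.{u} (O.obj.obj (op W)) :=
  SheafOfModules.evaluation (ModSite.ringSh O) (op W)

theorem preservesColimits_E (hJ : J = ⊥) (W : C) : PreservesColimitsOfSize.{u, u} (E O W) := by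
  haveI : (SheafOfModules.forget.{u} (ModSite.ringSh O)).EssSurj :=
    ⟨fun P => ⟨⟨P, by subst hJ; exact Presheaf.isSheaf_bot _⟩, ⟨Iso.refl _⟩⟩⟩
  haveI : (SheafOfModules.forget.{u} (ModSite.ringSh O)).IsEquivalence := {}
  exact inferInstanceAs (PreservesColimitsOfSize.{u, u}
    (SheafOfModules.forget (ModSite.ringSh O) ⋙ PresheafOfModules.evaluation _ (op W)))

theorem preservesFiniteLimits_E (W : C) : PreservesFiniteLimits (E O W) :=
  inferInstanceAs (PreservesFiniteLimits
    (SheafOfModules.forget (ModSite.ringSh O) ⋙ PresheafOfModules.evaluation _ (op W)))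

variable (O) in
/-- Sections over the target, extended to the source. -/
abbrev L {U V : C} (g : U ⟶ V) : ModSite.Mod O ⥤ ModuleCat.{u} (O.obj.obj (op U)) :=
  E O V ⋙ ModuleCat.extendScalars (O.obj.map g.op).hom

/-- The base-change map. -/
abbrev tau {U V : C} (g : U ⟶ V) (F : ModSite.Mod O) : (L O g).obj F ⟶ (E O U).obj F :=
  ((ModuleCat.extendRestrictScalarsAdj (O.obj.map g.op).hom).homEquiv
    (F.val.obj (op V) : ModuleCat.{u} (O.obj.obj (op V))) (F.val.obj (op U) : ModuleCat.{u} (O.obj.obj (op U)))).symm
    (F.val.map g.op)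

variable (O) in
/-- The base-change maps as a natural transformation. -/
def tauNT {U V : C} (g : U ⟶ V) : L O g ⟶ E O U where
  app F := tau g F
  naturality {F G} α := by
    let adj := ModuleCat.extendRestrictScalarsAdj (O.obj.map g.op).hom
    refine (adj.homEquiv_naturality_left_symm ((E O V).map α) (G.val.map g.op)).symm.trans
      (Eq.trans (congrArg _ ?_) (adj.homEquiv_naturality_right_symm (F.val.map g.op) ((E O U).map α)))
    exact (α.val.naturality g.op).symm

theorem tau_one_tmul {U V : C} (g : U ⟶ V) (F : ModSite.Mod O) (m : F.val.obj (op V)) :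
    letI : Algebra (O.obj.obj (op V)) (O.obj.obj (op U)) := (O.obj.map g.op).hom.toAlgebra
    (tau g F).hom (TensorProduct.tmul (O.obj.obj (op V)) (1 : O.obj.obj (op U)) (show (E O V).obj F from m)) =
      F.val.map g.op m := by
  letI : Algebra (O.obj.obj (op V)) (O.obj.obj (op U)) := (O.obj.map g.op).hom.toAlgebra
  refine (ModuleCat.extendRestrictScalarsAdj_homEquiv_apply (tau g F) (show (E O V).obj F from m)).symm.trans ?_
  exact congrArg (fun k : (E O V).obj F ⟶ (ModuleCat.restrictScalars (O.obj.map g.op).hom).obj ((E O U).obj F) =>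
    k.hom (show (E O V).obj F from m))
    (((ModuleCat.extendRestrictScalarsAdj (O.obj.map g.op).hom).homEquiv ((E O V).obj F) ((E O U).obj F)).apply_symm_apply (F.val.map g.op))

theorem isIso_tau_unit {U V : C} (g : U ⟶ V) : IsIso (tau g (ModSite.unit O)) := by
  letI : Algebra (O.obj.obj (op V)) (O.obj.obj (op U)) := (O.obj.map g.op).hom.toAlgebra
  let τ := (tau g (ModSite.unit O)).hom
  let one' : (L O g).obj (ModSite.unit O) :=
    TensorProduct.tmul (O.obj.obj (op V)) (1 : O.obj.obj (op U)) (show (E O V).obj (ModSite.unit O) from (1 : O.obj.obj (op V)))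
  have h1 : τ one' = (show (E O U).obj (ModSite.unit O) from (1 : O.obj.obj (op U))) :=
    (tau_one_tmul g (ModSite.unit O) _).trans (map_one (O.obj.map g.op).hom)
  let ψ : (E O U).obj (ModSite.unit O) →ₗ[O.obj.obj (op U)] (L O g).obj (ModSite.unit O) :=
    LinearMap.toSpanSingleton (O.obj.obj (op U)) _ one'
  let φ : (E O U).obj (ModSite.unit O) ⟶ (L O g).obj (ModSite.unit O) := ModuleCat.ofHom ψ
  refine ⟨φ, ?_, ModuleCat.hom_ext (LinearMap.ext fun b => ?_)⟩
  · refine ((ModuleCat.extendRestrictScalarsAdj (O.obj.map g.op).hom).homEquiv _ _).injective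
      (ModuleCat.hom_ext (LinearMap.ext fun m => ?_))
    change O.obj.obj (op V) at m
    show ψ (τ (TensorProduct.tmul (O.obj.obj (op V)) (1 : O.obj.obj (op U)) (show (E O V).obj (ModSite.unit O) from m))) = _
    rw [show τ _ = _ from tau_one_tmul g (ModSite.unit O) m]
    show ((O.obj.map g.op).hom m) • one' =
      TensorProduct.tmul (O.obj.obj (op V)) (1 : O.obj.obj (op U)) (show (E O V).obj (ModSite.unit O) from m)
    refine Eq.trans (b := TensorProduct.tmul (O.obj.obj (op V)) (m • (1 : O.obj.obj (op U)))
      (show (E O V).obj (ModSite.unit O) from (1 : O.obj.obj (op V)))) ?_ ?_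
    · rw [Algebra.smul_def, mul_one]
      exact (congrArg (fun z => TensorProduct.tmul (O.obj.obj (op V)) z
        (show (E O V).obj (ModSite.unit O) from (1 : O.obj.obj (op V)))) (mul_one ((O.obj.map g.op).hom m)))
    · rw [TensorProduct.smul_tmul]
      exact congrArg (TensorProduct.tmul (O.obj.obj (op V)) (1 : O.obj.obj (op U))) (mul_one (M := O.obj.obj (op V)) m)
  · show τ (ψ b) = b
    refine (map_smul τ (show O.obj.obj (op U) from b) one').trans ?_
    rw [h1]
    exact mul_one (M := O.obj.obj (op U)) b

theorem isIso_tau_of_isColimit (hJ : J = ⊥) {U V : C} (g : U ⟶ V) {I : Type u} [SmallCategory I] {K : I ⥤ ModSite.Mod O}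
    {c : Cocone K} (hc : IsColimit c) (h : ∀ i, IsIso (tau g (K.obj i))) : IsIso (tau g c.pt) := by
  haveI := preservesColimits_E (O := O) hJ U
  haveI := preservesColimits_E (O := O) hJ V
  exact isIso_app_of_isColimit hc (tauNT O g) h

theorem isIso_tau_free (hJ : J = ⊥) {U V : C} (g : U ⟶ V) (I : Type u) :
    IsIso (tau g (SheafOfModules.free (R := ModSite.ringSh O) I)) :=
  isIso_tau_of_isColimit hJ g (SheafOfModules.isColimitFreeCofan I) fun _ => isIso_tau_unit g

theorem isIso_tau_cokernel (hJ : J = ⊥) {U V : C} (g : U ⟶ V) {A B : ModSite.Mod O} (f : A ⟶ B)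
    (hA : IsIso (tau g A)) (hB : IsIso (tau g B)) : IsIso (tau g (cokernel f)) := by
  haveI := preservesColimits_E (O := O) hJ U
  haveI := preservesColimits_E (O := O) hJ V
  haveI : PreservesFiniteColimits (E O U) := PreservesColimitsOfSize.preservesFiniteColimits _
  haveI : PreservesFiniteColimits (E O V) := PreservesColimitsOfSize.preservesFiniteColimits _
  haveI : PreservesFiniteColimits (L O g) := comp_preservesFiniteColimits _ _
  exact isIso_app_of_isColimit (cokernelIsCokernel f) (tauNT O g) fun i => by
    rcases i with _ | _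
    · exact hA
    · exact hB

theorem isIso_tau_congr {U V : C} (g : U ⟶ V) {A B : ModSite.Mod O} (e : A ≅ B) (hA : IsIso (tau g A)) :
    IsIso (tau g B) :=
  (NatTrans.isIso_app_iff_of_iso (tauNT O g) e).mp hA

/-- A module with a presentation has invertible base-change maps. -/
theorem isIso_tau_of_presentation (hJ : J = ⊥) {M : ModSite.Mod O} (P : M.Presentation) {U V : C} (g : U ⟶ V) :
    IsIso (tau g M) := by
  haveI : Epi P.relations.π := P.relations.epi
  let r : SheafOfModules.free (R := ModSite.ringSh O) P.relations.I ⟶ SheafOfModules.free P.generators.I :=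
    P.relations.π ≫ kernel.ι P.generators.π
  have hc : IsColimit (CokernelCofork.ofπ (f := r) P.generators.π (by simp [r])) :=
    isCokernelEpiComp (Abelian.epiIsCokernelOfKernel _ (kernelIsKernel P.generators.π)) P.relations.π rfl
  exact isIso_tau_congr g (IsColimit.coconePointUniqueUpToIso (cokernelIsCokernel r) hc)
    (isIso_tau_cokernel hJ g r (isIso_tau_free hJ g _) (isIso_tau_free hJ g _))

theorem epi_of_sect_surjective {M N : ModSite.Mod O} (f : M ⟶ N)
    (h : ∀ W : C, Function.Surjective (f.val.app (op W))) : Epi f :=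
  FModLib.epi_of_locally f fun W s => ⟨⊤, J.top_mem W, fun {W'} a _ => h W' _⟩

/-- All sections over a terminal object. -/
def allSections {T : C} (hT : IsTerminal T) (M : ModSite.Mod O) : M.val.obj (op T) → M.sections :=
  fun x => SiteBase.termSection hT M x

variable {T : C} (hT : IsTerminal T)

theorem surjective_allSections_term (M : ModSite.Mod O) :
    Function.Surjective ((M.freeHomEquiv.symm (allSections hT M)).val.app (op T)) := fun x => by
  refine ⟨(SheafOfModules.freeSection (R := ModSite.ringSh O) x).val (op T), ?_⟩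
  exact (congrArg (fun s : M.sections => s.val (op T))
    (SheafOfModules.sectionsMap_freeHomEquiv_symm_freeSection (allSections hT M) x)).trans
    (SiteBase.termSection_val hT M x)

theorem epi_allSections (hJ : J = ⊥) (M : ModSite.Mod O) (hM : ∀ W, Epi (tau (hT.from W) M)) :
    Epi (M.freeHomEquiv.symm (allSections hT M)) := by
  let π := M.freeHomEquiv.symm (allSections hT M)
  refine epi_of_sect_surjective π fun W => ?_
  haveI : Epi ((tauNT O (hT.from W)).app M) := hM W
  haveI : Epi ((E O T).map π) := (ModuleCat.epi_iff_surjective _).mpr (surjective_allSections_term hT M)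
  haveI : Epi ((L O (hT.from W)).map π) :=
    Functor.map_epi (ModuleCat.extendScalars.{u, u, u} (O.obj.map (hT.from W).op).hom) ((E O T).map π)
  haveI : Epi ((tauNT O (hT.from W)).app _ ≫ (E O W).map π) := by
    rw [← (tauNT O (hT.from W)).naturality π]
    exact epi_comp _ _
  haveI : Epi ((E O W).map π) := epi_of_epi ((tauNT O (hT.from W)).app _) _
  exact (ModuleCat.epi_iff_surjective ((E O W).map π)).mp inferInstance

/-- Invertible base change from a terminal object gives a presentation. -/
theorem exists_presentation (hJ : J = ⊥) (M : ModSite.Mod O) (hM : ∀ W, IsIso (tau (hT.from W) M)) :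
    Nonempty M.Presentation := by
  haveI hπ := epi_allSections hT hJ M fun W => by haveI := hM W; infer_instance
  let σ : M.GeneratingSections := { I := M.val.obj (op T), s := allSections hT M, epi := hπ }
  let K := kernel σ.π
  refine ⟨{ generators := σ, relations := { I := K.val.obj (op T), s := allSections hT K, epi := epi_allSections hT hJ K fun W => ?_ } }⟩
  haveI := preservesColimits_E (O := O) hJ W
  haveI := preservesColimits_E (O := O) hJ T
  haveI := preservesFiniteLimits_E (O := O) W
  haveI : PreservesFiniteColimits (E O W) := PreservesColimitsOfSize.preservesFiniteColimits _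
  haveI : PreservesFiniteColimits (E O T) := PreservesColimitsOfSize.preservesFiniteColimits _
  haveI : PreservesFiniteColimits (L O (hT.from W)) := comp_preservesFiniteColimits _ _
  let S := ShortComplex.mk (kernel.ι σ.π) σ.π (kernel.condition _)
  have hS : S.Exact := ShortComplex.exact_kernel σ.π
  haveI : Epi S.g := σ.epi
  haveI hm : Mono ((E O W).map S.f) := inferInstance
  haveI : (L O (hT.from W)).PreservesZeroMorphisms := inferInstance
  have hL := hS.map_of_epi_of_preservesCokernel (L O (hT.from W)) inferInstance inferInstance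
  refine (ModuleCat.epi_iff_surjective _).mpr fun z => ?_
  have hfr := isIso_tau_free (O := O) hJ (hT.from W) σ.I
  haveI := hM W
  obtain ⟨x', hx'⟩ := ((ConcreteCategory.bijective_of_isIso (tau (hT.from W) (SheafOfModules.free (R := ModSite.ringSh O) σ.I))).2
    ((E O W).map S.f z))
  have hgx : (L O (hT.from W)).map S.g x' = 0 := by
    refine (ConcreteCategory.bijective_of_isIso (tau (hT.from W) M)).1 ?_
    rw [map_zero]
    refine (congrArg (fun k => k x') (congrArg DFunLike.coe (congrArg ModuleCat.Hom.hom
      ((tauNT O (hT.from W)).naturality S.g)))).trans ?_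
    refine (congrArg ((E O W).map S.g) hx').trans ?_
    exact congrArg (fun k => k.hom z) ((E O W).map_comp S.f S.g).symm |>.trans (by rw [S.zero, Functor.map_zero])
  obtain ⟨k', hk'⟩ := ((ShortComplex.moduleCat_exact_iff _).mp hL) x' hgx
  refine ⟨k', (ModuleCat.mono_iff_injective _).mp hm ?_⟩
  refine Eq.trans ?_ ((congrArg (tau (hT.from W) _) hk').trans hx')
  exact (congrArg (fun k => k k') (congrArg DFunLike.coe (congrArg ModuleCat.Hom.hom
    ((tauNT O (hT.from W)).naturality S.f)))).symm

/-- Quasi-coherence for the chaotic topology means invertibility of the base-change maps. -/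
theorem isQuasicoherent_iff {C : Type u} [SmallCategory C] {O : Sheaf (⊥ : GrothendieckTopology C) CommRingCat.{u}}
    (F : ModSite.Mod O) : SheafOfModules.IsQuasicoherent (R := ModSite.ringSh O) F ↔
      ∀ (U V : C) (g : U ⟶ V), IsIso (tau g F) := by
  refine ⟨fun h U V g => ?_, fun h => ?_⟩
  · obtain ⟨q⟩ := h.nonempty_quasicoherentData
    have h1 : Sieve.ofObjects q.X V = ⊤ := GrothendieckTopology.bot_covering.mp (q.coversTop V)
    obtain ⟨i, ⟨a⟩⟩ := (Sieve.mem_ofObjects_iff ..).mp
      (show Sieve.ofObjects q.X V (𝟙 V) by rw [h1]; trivial)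
    exact isIso_tau_of_presentation (C := Over (q.X i)) (O := O.over (q.X i)) (over_bot (q.X i)) (q.presentation i)
      (Over.homMk g rfl : Over.mk (g ≫ a) ⟶ Over.mk a)
  · have hP : ∀ X : C, Nonempty ((F.over X).Presentation) := fun X =>
      exists_presentation (C := Over X) (O := O.over X) (T := Over.mk (𝟙 X)) Over.mkIdTerminal (over_bot X) (F.over X)
        fun W => h W.left X (Over.mkIdTerminal.from W).left
    let P := fun X => (hP X).some
    have hcov : (⊥ : GrothendieckTopology C).CoversTop (id : C → C) := fun X =>
      GrothendieckTopology.covering_of_eq_top _ (by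
        rw [← Sieve.id_mem_iff_eq_top, Sieve.mem_ofObjects_iff]
        exact ⟨X, ⟨𝟙 X⟩⟩)
    let q := SheafOfModules.QuasicoherentData.mk (M := F) C id hcov P
    exact q.isQuasicoherent

theorem isIso_tau_kernel {U V : C} (g : U ⟶ V) (hg : (O.obj.map g.op).hom.Flat) {A B : ModSite.Mod O} (f : A ⟶ B)
    (hA : IsIso (tau g A)) (hB : IsIso (tau g B)) : IsIso (tau g (kernel f)) := by
  haveI := preservesFiniteLimits_E (O := O) U
  haveI := preservesFiniteLimits_E (O := O) V
  haveI := ModuleCat.preservesFiniteLimits_extendScalars_of_flat.{u} hg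
  haveI : PreservesFiniteLimits (L O g) := comp_preservesFiniteLimits _ _
  let hR := isLimitOfPreserves (E O U) (kernelIsKernel f)
  let hL := isLimitOfPreserves (L O g) (kernelIsKernel f)
  haveI : ∀ i, IsIso ((tauNT O g).app ((parallelPair f 0).obj i)) := fun i => by
    rcases i with _ | _
    · exact hA
    · exact hB
  let e := hL.conePointsIsoOfNatIso hR
    (NatIso.ofComponents (fun i => asIso ((tauNT O g).app ((parallelPair f 0).obj i)))
      fun k => (tauNT O g).naturality ((parallelPair f 0).map k))
  have he : e.hom = tau g (kernel f) := hR.hom_ext fun i => by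
    rw [IsLimit.conePointsIsoOfNatIso_hom_comp]
    exact (tauNT O g).naturality ((KernelFork.ofι (kernel.ι f) (kernel.condition f)).π.app i)
  rw [← he]
  infer_instance

theorem isIso_tau_extension (hJ : J = ⊥) {U V : C} (g : U ⟶ V) (hg : (O.obj.map g.op).hom.Flat)
    {S : ShortComplex (ModSite.Mod O)} (hS : S.ShortExact)
    (h₁ : IsIso (tau g S.X₁)) (h₃ : IsIso (tau g S.X₃)) : IsIso (tau g S.X₂) := by
  haveI := preservesColimits_E (O := O) hJ U
  haveI := preservesColimits_E (O := O) hJ V
  haveI : PreservesFiniteColimits (E O U) := PreservesColimitsOfSize.preservesFiniteColimits _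
  haveI : PreservesFiniteColimits (E O V) := PreservesColimitsOfSize.preservesFiniteColimits _
  haveI : PreservesFiniteColimits (L O g) := comp_preservesFiniteColimits _ _
  haveI := preservesFiniteLimits_E (O := O) U
  haveI := preservesFiniteLimits_E (O := O) V
  haveI := ModuleCat.preservesFiniteLimits_extendScalars_of_flat.{u} hg
  haveI : PreservesFiniteLimits (L O g) := comp_preservesFiniteLimits _ _
  haveI : IsIso (S.mapNatTrans (tauNT O g)).τ₁ := h₁
  haveI : IsIso (S.mapNatTrans (tauNT O g)).τ₃ := h₃
  exact ShortComplex.isIso₂_of_shortExact_of_isIso₁₃ (S.mapNatTrans (tauNT O g))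
    (hS.map_of_exact (L O g)) (hS.map_of_exact (E O U))

end Groth.Agent.ChaoticQC
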